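import Cfsg.Prelude.Def_Blocks
import Mathlib.GroupTheory.Sylow

/-!
# S4933, `³D₄(q)`, `3 ∣ q + 1` (helper912): the abstract situation

`P = U L` a maximal parabolic subgroup, `w` an element commuting with `L` modulo `C`, `w P w⁻¹ ∩ U = 1`, `w² ∈ C`;
`ρ` an irreducible character of `P` trivial on `U` and `C`, which is `cuspidal` with respect to the double cosets different
from `P` and `P w P`.
-/

set_option autoImplicit false

open Subgroup Cfsg

namespace Cfsg.Agent.H912.HT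

universe u

/-- the double coset `P w P` -/
def Big {G : Type u} [Group G] (P : Subgroup G) (w g : G) : Prop := ∃ a ∈ P, ∃ b ∈ P, g = a * w * b

/-- the group theoretic situation -/
structure Dat {G : Type u} [Group G] (P U Lv C : Subgroup G) (w : G) : Prop where
  U_le : U ≤ P
  L_le : Lv ≤ P
  C_le : C ≤ Lv
  norm : ∀ p ∈ P, ∀ u ∈ U, p * u * p⁻¹ ∈ U
  normC : ∀ l ∈ Lv, ∀ x ∈ C, l * x * l⁻¹ ∈ C
  prod : ∀ p ∈ P, ∃ u ∈ U, ∃ l ∈ Lv, p = u * l
  comm : ∀ l ∈ Lv, w * l * w⁻¹ * l⁻¹ ∈ C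
  sq : w * w ∈ C
  opp : ∀ u ∈ U, w * u * w⁻¹ ∈ P → u = 1

/-- the conditions on the character of `P` -/
structure Chr {G : Type u} [Group G] (P U C : Subgroup G) (w : G) (ρ : P → ℂ) : Prop where
  irr : IsIrrCharacter P ρ
  kerU : ∀ x g : P, (x : G) ∈ U → ρ (x * g) = ρ g
  kerC : ∀ x g : P, (x : G) ∈ C → ρ (x * g) = ρ g
  cusp : ∀ g : G, g ∉ P → ¬ Big P w g → ∃ D : Subgroup P, (∀ d ∈ D, g⁻¹ * (d : G) * g ∈ U) ∧
    ∀ x : P, ∑ᶠ d : D, ρ ((d : P) * x) = 0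

end Cfsg.Agent.H912.HT
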