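import Cfsg.Agent.H912.HT.Dat
import Cfsg.Agent.Characters.Core
import Cfsg.Agent.OddOrderCharacters.ClassSum

/-!
# S4933, `³D₄(q)`, `3 ∣ q + 1` (helper912): the scalar of `w` on the `ρ`-part of a constituent of `Ind ρ`
-/

set_option autoImplicit false

open Subgroup Cfsg Module

namespace Cfsg.Agent.H912.HT

universe u

section mult

variable {H : Type*} [Group H] {V W : Type*} [AddCommGroup V] [Module ℂ V] [FiniteDimensional ℂ V]
  [AddCommGroup W] [Module ℂ W] [FiniteDimensional ℂ W]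

theorem sum_comp' {ι X Y Z : Type*} [AddCommGroup X] [Module ℂ X] [AddCommGroup Y] [Module ℂ Y] [AddCommGroup Z]
    [Module ℂ Z] (s : Finset ι) (f : ι → Y →ₗ[ℂ] Z) (g : X →ₗ[ℂ] Y) : (∑ i ∈ s, f i) ∘ₗ g = ∑ i ∈ s, f i ∘ₗ g := by
  ext v
  simp [LinearMap.sum_apply]

theorem comp_sum' {ι X Y Z : Type*} [AddCommGroup X] [Module ℂ X] [AddCommGroup Y] [Module ℂ Y] [AddCommGroup Z]
    [Module ℂ Z] (s : Finset ι) (f : ι → X →ₗ[ℂ] Y) (g : Y →ₗ[ℂ] Z) : g ∘ₗ (∑ i ∈ s, f i) = ∑ i ∈ s, g ∘ₗ f i := by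
  ext v
  simp [LinearMap.sum_apply]

/-- multiplicity one: the embedding and the projection -/
theorem exists_emb [Fintype H] (π : Representation ℂ H V) (τ : Representation ℂ H W) (hτ : τ.IsIrreducible)
    (h1 : classInner π.character τ.character = 1) :
    ∃ (ι : W →ₗ[ℂ] V) (κ : V →ₗ[ℂ] W), (∀ x, ι ∘ₗ τ x = π x ∘ₗ ι) ∧ (∀ x, κ ∘ₗ π x = τ x ∘ₗ κ) ∧
      κ ∘ₗ ι = LinearMap.id ∧
      ∀ B : W →ₗ[ℂ] V, (∀ x, B ∘ₗ τ x = π x ∘ₗ B) → ∃ b : ℂ, B = b • ι := by
  classical
  have := hτ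
  rw [Characters.Core.classInner_character] at h1
  have h2 : finrank ℂ (Representation.IntertwiningMap τ π) = 1 := by exact_mod_cast h1
  obtain ⟨ι, hι0, hι⟩ := finrank_eq_one_iff'.1 h2
  have hie : ∀ x, ι.toLinearMap ∘ₗ τ x = π x ∘ₗ ι.toLinearMap := fun x => ι.isIntertwining' x
  have hker : LinearMap.ker ι.toLinearMap = ⊥ := by
    let S : Subrepresentation τ := ⟨LinearMap.ker ι.toLinearMap, fun x v hv => by
      rw [LinearMap.mem_ker] at hv ⊢
      have := LinearMap.congr_fun (hie x) v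
      simp only [LinearMap.comp_apply] at this
      rw [this, hv, map_zero]⟩
    rcases hτ.eq_bot_or_eq_top S with h | h
    · exact congrArg Subrepresentation.toSubmodule h
    · exfalso
      apply hι0
      have h3 : LinearMap.ker ι.toLinearMap = ⊤ := congrArg Subrepresentation.toSubmodule h
      ext v
      have : v ∈ LinearMap.ker ι.toLinearMap := by rw [h3]; trivial
      exact this
  obtain ⟨κ₀, hκ₀⟩ := LinearMap.exists_leftInverse_of_injective ι.toLinearMap hker
  have hH : (Nat.card H : ℂ) ≠ 0 := Characters.Core.card_ne_zero_complex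
  refine ⟨ι.toLinearMap, (Nat.card H : ℂ)⁻¹ • ∑ x : H, τ x ∘ₗ κ₀ ∘ₗ π x⁻¹, hie, ?_, ?_, ?_⟩
  · intro y
    rw [LinearMap.smul_comp, LinearMap.comp_smul, sum_comp', comp_sum']
    congr 1
    refine Fintype.sum_equiv (Equiv.mulLeft y⁻¹) _ _ fun x => ?_
    simp only [Equiv.coe_mulLeft]
    ext v
    simp only [LinearMap.comp_apply]
    rw [← Module.End.mul_apply (τ y), ← map_mul, ← Module.End.mul_apply (π x⁻¹), ← map_mul]
    congr 2
    · group
    · congr 3
      group
  · rw [LinearMap.smul_comp, sum_comp']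
    have h3 : ∀ x : H, (τ x ∘ₗ κ₀ ∘ₗ π x⁻¹) ∘ₗ ι.toLinearMap = LinearMap.id := by
      intro x
      rw [LinearMap.comp_assoc, LinearMap.comp_assoc, ← hie, ← LinearMap.comp_assoc (τ x⁻¹) ι.toLinearMap κ₀, hκ₀, LinearMap.id_comp]
      change τ x * τ x⁻¹ = 1
      rw [← map_mul, mul_inv_cancel, map_one]
    rw [Finset.sum_congr rfl fun x _ => h3 x, Finset.sum_const, Finset.card_univ, ← Nat.card_eq_fintype_card,
      ← Nat.cast_smul_eq_nsmul ℂ, smul_smul, inv_mul_cancel₀ hH, one_smul]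
  · intro B hB
    obtain ⟨b, hb⟩ := hι ⟨B, hB⟩
    exact ⟨b, congrArg Representation.IntertwiningMap.toLinearMap hb.symm⟩

/-- no invariants when the sum of the character vanishes -/
theorem fixed_eq_zero (D : Subgroup H) [Fintype D] (τ : Representation ℂ H W)
    (h0 : ∑ d : D, τ.character (d : H) = 0) {v : W} (hv : ∀ d ∈ D, τ d v = v) : v = 0 := by
  have : Invertible (Nat.card D : ℂ) := invertibleOfNonzero Characters.Core.card_ne_zero_complex
  have h1 := Representation.card_inv_mul_sum_char_eq_finrank (τ.comp D.subtype)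
  have h2 : ∑ g : D, Representation.character (τ.comp D.subtype) g = 0 := h0
  rw [h2, mul_zero] at h1
  have h3 : finrank ℂ (Representation.invariants (τ.comp D.subtype)) = 0 := by exact_mod_cast h1.symm
  have h4 : Representation.invariants (τ.comp D.subtype) = ⊥ := Submodule.finrank_eq_zero.1 h3
  have h5 : v ∈ Representation.invariants (τ.comp D.subtype) := fun d => hv d d.2
  rw [h4] at h5
  exact h5

end mult

section core

variable {G : Type u} [Group G] {P U Lv C : Subgroup G} {w : G}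

theorem Dat.mul_w (D : Dat P U Lv C w) {l : G} (hl : l ∈ Lv) : ∃ c ∈ C, w * l = c * l * w :=
  ⟨w * l * w⁻¹ * l⁻¹, D.comm l hl, by group⟩

/-- `|P w P| = |P| |U|` -/
theorem Dat.card_big [Finite G] (D : Dat P U Lv C w) :
    Nat.card {g : G // Big P w g} = Nat.card P * Nat.card U := by
  rw [← Nat.card_prod]
  symm
  refine Nat.card_congr (Equiv.ofBijective (fun y : P × U => (⟨y.1 * w * y.2, y.1, y.1.2, y.2, D.U_le y.2.2, rfl⟩ :
    {g : G // Big P w g})) ⟨?_, ?_⟩)
  · rintro ⟨⟨p, hp⟩, ⟨u, hu⟩⟩ ⟨⟨p', hp'⟩, ⟨u', hu'⟩⟩ h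
    have h1 : p * w * u = p' * w * u' := congrArg Subtype.val h
    have h2 : w * (u' * u⁻¹) * w⁻¹ = p'⁻¹ * p := by
      have h3 : p'⁻¹ * (p * w * u) * u⁻¹ * w⁻¹ = p'⁻¹ * (p' * w * u') * u⁻¹ * w⁻¹ := by rw [h1]
      have e1 : p'⁻¹ * (p * w * u) * u⁻¹ * w⁻¹ = p'⁻¹ * p := by group
      have e2 : p'⁻¹ * (p' * w * u') * u⁻¹ * w⁻¹ = w * (u' * u⁻¹) * w⁻¹ := by group
      rw [← e1, h3, e2]
    have h3 : u' * u⁻¹ = 1 := D.opp _ (mul_mem hu' (inv_mem hu)) (by rw [h2]; exact mul_mem (inv_mem hp') hp)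
    have h4 : u' = u := mul_inv_eq_one.1 h3
    subst h4
    have h5 : p = p' := mul_right_cancel (mul_right_cancel h1)
    subst h5
    rfl
  · rintro ⟨g, a, ha, b, hb, e⟩
    obtain ⟨u, hu, l, hl, e1⟩ := D.prod b hb
    obtain ⟨c, hc, e2⟩ := D.mul_w hl
    have hlP := D.L_le hl
    refine ⟨(⟨a * (c * l), mul_mem ha (mul_mem (D.L_le (D.C_le hc)) hlP)⟩, ⟨l⁻¹ * u * l, ?_⟩), ?_⟩
    · have := D.norm l⁻¹ (inv_mem hlP) u hu
      rwa [inv_inv] at this
    · apply Subtype.ext
      show a * (c * l) * w * (l⁻¹ * u * l) = g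
      rw [e, e1, show a * (c * l) * w * (l⁻¹ * u * l) = a * (c * l * w) * (l⁻¹ * u * l) by group, ← e2]
      group

/-- **The scalar of `w`.** -/
theorem core [Finite G] [Fintype P] [Fintype U] [DecidablePred (Big P w)] (D : Dat P U Lv C w) (hwP : w ∉ P)
    {V W : Type*} [AddCommGroup V] [Module ℂ V]
    [FiniteDimensional ℂ V] [AddCommGroup W] [Module ℂ W] [FiniteDimensional ℂ W]
    (π : Representation ℂ G V) (hπ : π.IsIrreducible) (τ : Representation ℂ P W) (hτ : τ.IsIrreducible)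
    (hU : ∀ x : P, (x : G) ∈ U → τ x = 1) (hC : ∀ x : P, (x : G) ∈ C → τ x = 1)
    (hcusp : ∀ g : G, g ∉ P → ¬ Big P w g → ∃ D' : Subgroup P, (∀ d ∈ D', g⁻¹ * (d : G) * g ∈ U) ∧
      ∑ᶠ d : D', τ.character (d : P) = 0)
    (h1 : classInner (fun x : P => π.character (x : G)) τ.character = 1)
    (x : G → P) (hx : ∀ g, Big P w g → ∃ a, ∃ ha : a ∈ P, ∃ b, ∃ hb : b ∈ P, g = a * w * b ∧ x g = ⟨a, ha⟩ * ⟨b, hb⟩) :
    ∃ a : ℂ, (finrank ℂ V : ℂ) * (Nat.card P + Nat.card P * Nat.card U * a ^ 2) = Nat.card G * finrank ℂ W ∧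
      (Nat.card U : ℂ) * a ^ 2 * finrank ℂ W = finrank ℂ W +
        a * ∑ u : U, if Big P w (w * u * w⁻¹) then τ.character (x (w * u * w⁻¹)) else 0 := by
  classical
  have := Fintype.ofFinite G
  obtain ⟨ι, κ, hι, hκ, hκι, hmul⟩ := exists_emb (π.comp P.subtype) τ hτ h1
  have hι' : ∀ (p : P) v, π p (ι v) = ι (τ p v) := fun p v => (LinearMap.congr_fun (hι p) v).symm
  have hκ' : ∀ (p : P) v, κ (π p v) = τ p (κ v) := fun p v => LinearMap.congr_fun (hκ p) v
  have hκι' : ∀ v, κ (ι v) = v := fun v => LinearMap.congr_fun hκι v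
  have hpm : ∀ (g g' : G) v, π (g * g') v = π g (π g' v) := fun g g' v => by rw [map_mul]; rfl
  have htm : ∀ (g g' : P) v, τ (g * g') v = τ g (τ g' v) := fun g g' v => by rw [map_mul]; rfl
  let B : G → (W →ₗ[ℂ] W) := fun g => κ ∘ₗ π g ∘ₗ ι
  have hBv : ∀ g v, B g v = κ (π g (ι v)) := fun g v => rfl
  have hB2 : ∀ (p p' : P) g v, B (p * g * p') v = τ p (B g (τ p' v)) := by
    intro p p' g v
    rw [hBv, hBv, hpm, hpm, hκ', hι']
  -- the scalar
  have hcom : ∀ g : P, B w ∘ₗ τ g = τ g ∘ₗ B w := by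
    intro g
    obtain ⟨u, hu, l, hl, e⟩ := D.prod g g.2
    obtain ⟨c, hc, e2⟩ := D.mul_w hl
    have hgl : τ g = τ ⟨l, D.L_le hl⟩ := by
      have : g = ⟨u, D.U_le hu⟩ * ⟨l, D.L_le hl⟩ := Subtype.ext e
      rw [this, map_mul, hU _ hu, one_mul]
    rw [hgl]
    ext v
    simp only [LinearMap.comp_apply]
    have hcl : τ ⟨l, D.L_le hl⟩ = τ (⟨c, D.L_le (D.C_le hc)⟩ * ⟨l, D.L_le hl⟩) := by
      rw [map_mul, hC ⟨c, D.L_le (D.C_le hc)⟩ hc, one_mul]
    rw [hBv, hBv, ← hι', ← hpm]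
    show κ (π (w * l) (ι v)) = _
    rw [e2, hpm, hcl, ← hκ']
    rfl
  obtain ⟨a, ha⟩ := Cfsg.Agent.OddOrderCharacters.ClassSum.schur_scalar τ hτ (B w) hcom
  have haw : ∀ v, B w v = a • v := fun v => by rw [ha]; rfl
  have hwi : ∀ v, π w⁻¹ (ι v) = π w (ι v) := by
    intro v
    have h2 : (w * w)⁻¹ ∈ C := inv_mem D.sq
    have h3 := hι' ⟨(w * w)⁻¹, D.L_le (D.C_le h2)⟩ v
    rw [hC _ h2] at h3
    rw [show w⁻¹ = w * (w * w)⁻¹ by group, hpm]
    exact congrArg (π w) h3
  have hawi : ∀ v, B w⁻¹ v = a • v := fun v => by rw [hBv, hwi]; exact haw v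
  -- values
  have hBP : ∀ p : P, ∀ v, B p v = τ p v := fun p v => by rw [hBv, hι', hκι']
  have hBbig : ∀ g, Big P w g → ∀ v, B g v = a • τ (x g) v := by
    intro g hg v
    obtain ⟨b, hb, b', hb', e, e'⟩ := hx g hg
    have := hB2 ⟨b, hb⟩ ⟨b', hb'⟩ w v
    rw [show ((⟨b, hb⟩ : P) : G) * w * ((⟨b', hb'⟩ : P) : G) = g from e.symm, haw, map_smul, ← htm, ← e'] at this
    exact this
  have hBbig' : ∀ g, Big P w g → ∀ v, B g⁻¹ v = a • τ (x g)⁻¹ v := by
    intro g hg v
    obtain ⟨b, hb, b', hb', e, e'⟩ := hx g hg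
    have := hB2 ⟨b', hb'⟩⁻¹ ⟨b, hb⟩⁻¹ w⁻¹ v
    rw [show (((⟨b', hb'⟩ : P)⁻¹ : P) : G) * w⁻¹ * (((⟨b, hb⟩ : P)⁻¹ : P) : G) = g⁻¹ by
      rw [e]; simp [mul_assoc], hawi, map_smul, ← htm, ← mul_inv_rev, ← e'] at this
    exact this
  have hB0 : ∀ g, g ∉ P → ¬ Big P w g → ∀ v, B g v = 0 := by
    intro g hg hg' v
    obtain ⟨D', hD, hs⟩ := hcusp g hg hg'
    have : Fintype D' := Fintype.ofFinite _
    rw [finsum_eq_sum_of_fintype] at hs
    refine fixed_eq_zero D' τ hs fun d hd => ?_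
    have h2 := hD d hd
    rw [hBv, ← hκ', ← hpm, show (d : G) * g = g * (g⁻¹ * d * g) by group, hpm]
    have h3 := hι' ⟨g⁻¹ * d * g, D.U_le h2⟩ v
    rw [hU _ h2] at h3
    exact congrArg (fun z => κ (π g z)) h3
  have hdisj : ∀ g, g ∈ P → ¬ Big P w g := by
    rintro g hg ⟨b, hb, b', hb', e⟩
    apply hwP
    have : w = b⁻¹ * g * b'⁻¹ := by rw [e]; group
    rw [this]
    exact mul_mem (mul_mem (inv_mem hb) hg) (inv_mem hb')
  refine ⟨a, ?_, ?_⟩
  · -- Schur for `G`
    have hdW : (finrank ℂ W : ℂ) ≠ 0 := by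
      have := Characters.Core.isIrr_apply_one_ne_zero (Characters.Core.isIrrCharacter_of_rep τ hτ)
      rwa [Representation.char_one] at this
    obtain ⟨v, hv⟩ : ∃ v : W, v ≠ 0 := by
      by_contra h
      push Not at h
      apply hdW
      have : Subsingleton W := ⟨fun a b => by rw [h a, h b]⟩
      rw [finrank_zero_of_subsingleton, Nat.cast_zero]
    obtain ⟨s, hs⟩ := Cfsg.Agent.OddOrderCharacters.ClassSum.schur_scalar π hπ
      (∑ g : G, π g ∘ₗ (ι ∘ₗ κ) ∘ₗ π g⁻¹) (by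
        intro y
        rw [sum_comp', comp_sum']
        refine Fintype.sum_equiv (Equiv.mulLeft y⁻¹) _ _ fun g => ?_
        simp only [Equiv.coe_mulLeft]
        ext z
        simp only [LinearMap.comp_apply]
        rw [← hpm g⁻¹ y z, ← hpm y (y⁻¹ * g)]
        congr 3
        · group
        · congr 2
          group)
    have htr := congrArg (LinearMap.trace ℂ V) hs
    rw [map_sum, map_smul, LinearMap.trace_id] at htr
    have h2 : ∀ g : G, LinearMap.trace ℂ V (π g ∘ₗ (ι ∘ₗ κ) ∘ₗ π g⁻¹) = (finrank ℂ W : ℂ) := by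
      intro g
      rw [LinearMap.trace_comp_comm', LinearMap.comp_assoc]
      have h3 : π g⁻¹ ∘ₗ π g = LinearMap.id := by
        change π g⁻¹ * π g = 1
        rw [← map_mul, inv_mul_cancel, map_one]
      rw [h3, LinearMap.comp_id, LinearMap.trace_comp_comm', hκι, LinearMap.trace_id]
    rw [Finset.sum_congr rfl fun g _ => h2 g, Finset.sum_const, Finset.card_univ, ← Nat.card_eq_fintype_card,
      nsmul_eq_mul, smul_eq_mul] at htr
    have h4 := LinearMap.congr_fun hs (ι v)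
    have h5 := congrArg κ h4
    rw [LinearMap.smul_apply, LinearMap.id_apply, map_smul, hκι', LinearMap.sum_apply, map_sum] at h5
    have h6 : ∀ g : G, κ ((π g ∘ₗ (ι ∘ₗ κ) ∘ₗ π g⁻¹) (ι v)) =
        ((if g ∈ P then (1 : ℂ) else 0) + if Big P w g then a ^ 2 else 0) • v := by
      intro g
      have h7 : κ ((π g ∘ₗ (ι ∘ₗ κ) ∘ₗ π g⁻¹) (ι v)) = B g (B g⁻¹ v) := rfl
      rw [h7]
      by_cases hg : g ∈ P
      · rw [if_pos hg, if_neg (hdisj g hg), add_zero, one_smul]
        have h8 := hBP ⟨g, hg⟩ (B g⁻¹ v)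
        have h9 := hBP ⟨g, hg⟩⁻¹ v
        have h8' : B g (B g⁻¹ v) = τ ⟨g, hg⟩ (B g⁻¹ v) := h8
        have h9' : B g⁻¹ v = τ ⟨g, hg⟩⁻¹ v := h9
        rw [h8', h9', ← htm, mul_inv_cancel, map_one]
        rfl
      · rw [if_neg hg, zero_add]
        by_cases hb : Big P w g
        · rw [if_pos hb, hBbig g hb, hBbig' g hb, map_smul, ← htm, mul_inv_cancel, map_one, smul_smul, ← sq]
          rfl
        · rw [if_neg hb, hB0 g hg hb, zero_smul]
    rw [Finset.sum_congr rfl fun g _ => h6 g, ← Finset.sum_smul] at h5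
    have h7 := smul_left_injective ℂ hv h5
    have hcP : ∑ g : G, (if g ∈ P then (1 : ℂ) else 0) = Nat.card P := by
      rw [Finset.sum_boole, Nat.card_eq_fintype_card, Fintype.card_subtype]
    have hcB : ∑ g : G, (if Big P w g then a ^ 2 else 0) = Nat.card P * Nat.card U * a ^ 2 := by
      rw [← Finset.sum_filter, Finset.sum_const, nsmul_eq_mul]
      have h8 : (Finset.univ.filter fun g : G => Big P w g).card = Nat.card {g : G // Big P w g} := by
        rw [Nat.card_eq_fintype_card, Fintype.card_subtype]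
      rw [h8, D.card_big, Nat.cast_mul]
    rw [Finset.sum_add_distrib, hcP, hcB] at h7
    rw [h7, htr]
    ring
  · -- the square of the operator
    have hUfix : ∀ (u : U) (v : V), κ (π (u : G) v) = κ v := by
      intro u v
      have := hκ' ⟨u, D.U_le u.2⟩ v
      rw [hU _ u.2] at this
      exact this
    obtain ⟨t, ht⟩ := hmul (∑ u : U, π (u : G) ∘ₗ π w⁻¹ ∘ₗ ι) (by
      intro g
      obtain ⟨u', hu', l, hl, e⟩ := D.prod g g.2
      obtain ⟨c, hc, e2⟩ := D.mul_w hl
      have hlP := D.L_le hl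
      have hgl : τ g = τ ⟨l, hlP⟩ := by
        have : g = ⟨u', D.U_le hu'⟩ * ⟨l, hlP⟩ := Subtype.ext e
        rw [this, map_mul, hU _ hu', one_mul]
      rw [hgl]
      show _ = π (g : G) ∘ₗ _
      rw [sum_comp', comp_sum', e]
      symm
      let φ : U ≃ U :=
        { toFun := fun u => ⟨u' * (l * u * l⁻¹), mul_mem hu' (D.norm l hlP u u.2)⟩
          invFun := fun u => ⟨l⁻¹ * (u'⁻¹ * u) * l, by
            have := D.norm l⁻¹ (inv_mem hlP) (u'⁻¹ * u) (mul_mem (inv_mem hu') u.2)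
            rwa [inv_inv] at this⟩
          left_inv := fun u => Subtype.ext (by simp; group)
          right_inv := fun u => Subtype.ext (by simp; group) }
      refine Fintype.sum_equiv φ _ _ fun u => ?_
      ext v
      simp only [LinearMap.comp_apply]
      have h2 : τ ⟨l, hlP⟩ v = τ (⟨c, D.L_le (D.C_le hc)⟩ * ⟨l, hlP⟩) v := by
        rw [map_mul, hC ⟨c, D.L_le (D.C_le hc)⟩ hc, one_mul]
      rw [h2, ← hι', ← hpm, ← hpm, ← hpm, ← hpm]
      congr 2
      show u' * l * u * w⁻¹ = u' * (l * u * l⁻¹) * w⁻¹ * (c * l)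
      have h3 : w⁻¹ * (c * l) = l * w⁻¹ := by
        have : c * l = w * l * w⁻¹ := by rw [e2]; group
        rw [this]; group
      rw [mul_assoc (u' * (l * u * l⁻¹)), h3]
      group)
    have hT : ∀ v, ∑ u : U, π (u : G) (π w⁻¹ (ι v)) = t • ι v := by
      intro v
      have := LinearMap.congr_fun ht v
      rw [LinearMap.sum_apply] at this
      exact this
    have hdW : (finrank ℂ W : ℂ) ≠ 0 := by
      have := Characters.Core.isIrr_apply_one_ne_zero (Characters.Core.isIrrCharacter_of_rep τ hτ)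
      rwa [Representation.char_one] at this
    obtain ⟨v₀, hv₀⟩ : ∃ v : W, v ≠ 0 := by
      by_contra h
      push Not at h
      apply hdW
      have : Subsingleton W := ⟨fun a b => by rw [h a, h b]⟩
      rw [finrank_zero_of_subsingleton, Nat.cast_zero]
    have hta : t = Nat.card U * a := by
      have h2 := congrArg κ (hT v₀)
      rw [map_sum, map_smul, hκι', Finset.sum_congr rfl fun u _ => hUfix u _] at h2
      have h3 : κ (π w⁻¹ (ι v₀)) = a • v₀ := hawi v₀
      rw [Finset.sum_congr rfl fun _ _ => h3, Finset.sum_const, Finset.card_univ, ← Nat.card_eq_fintype_card,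
        ← Nat.cast_smul_eq_nsmul ℂ, smul_smul] at h2
      exact (smul_left_injective ℂ hv₀ h2).symm
    have hU0 : (Nat.card U : ℂ) ≠ 0 := Characters.Core.card_ne_zero_complex
    have key : ∑ u : U, B (w * u * w⁻¹) = (Nat.card U * a ^ 2 : ℂ) • LinearMap.id := by
      ext v
      rw [LinearMap.sum_apply, LinearMap.smul_apply, LinearMap.id_apply]
      have h2 : ∑ u' : U, π (u' : G) (π w (∑ u : U, π (u : G) (π w⁻¹ (ι v)))) = t • t • ι v := by
        have h2' : ∀ u' : U, π (u' : G) (π w (t • ι v)) = t • π (u' : G) (π w⁻¹ (ι v)) := fun u' => by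
          rw [map_smul, map_smul, hwi]
        rw [hT v, Finset.sum_congr rfl fun u' _ => h2' u', ← Finset.smul_sum, hT v]
      have h3 := congrArg κ h2
      rw [map_sum, map_smul, map_smul, hκι', Finset.sum_congr rfl fun u _ => hUfix u _, Finset.sum_const,
        Finset.card_univ, ← Nat.card_eq_fintype_card, ← Nat.cast_smul_eq_nsmul ℂ, map_sum, map_sum, hta] at h3
      have h4 : ∀ u : U, κ (π w (π (u : G) (π w⁻¹ (ι v)))) = B (w * u * w⁻¹) v := by
        intro u
        rw [hBv, hpm, hpm]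
      rw [Finset.sum_congr rfl fun u _ => h4 u, smul_smul] at h3
      have h5 : (Nat.card U : ℂ) • ∑ u : U, B (w * u * w⁻¹) v = (Nat.card U : ℂ) • ((Nat.card U * a ^ 2 : ℂ) • v) := by
        rw [h3, smul_smul]
        congr 1
        ring
      exact smul_right_injective W hU0 h5
    have htr := congrArg (LinearMap.trace ℂ W) key
    rw [map_sum, map_smul, LinearMap.trace_id, smul_eq_mul] at htr
    rw [← htr]
    have h2 : ∀ u : U, LinearMap.trace ℂ W (B (w * u * w⁻¹)) = (if u = 1 then (finrank ℂ W : ℂ) else 0) +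
        a * if Big P w (w * u * w⁻¹) then τ.character (x (w * u * w⁻¹)) else 0 := by
      intro u
      by_cases hu : u = 1
      · subst hu
        have h3 : B (w * ((1 : U) : G) * w⁻¹) = LinearMap.id := by
          ext v
          have h4 := hBP 1 v
          rw [map_one] at h4
          rw [show w * ((1 : U) : G) * w⁻¹ = ((1 : P) : G) by simp]
          exact h4
        rw [h3, LinearMap.trace_id, if_pos rfl, if_neg (hdisj _ (by simp)), mul_zero, add_zero]
      · have hnP : w * (u : G) * w⁻¹ ∉ P := fun h => hu (Subtype.ext (D.opp _ u.2 h))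
        rw [if_neg hu, zero_add]
        by_cases hb : Big P w (w * u * w⁻¹)
        · rw [if_pos hb]
          have h3 : B (w * (u : G) * w⁻¹) = a • τ (x (w * u * w⁻¹)) := by
            ext v
            exact hBbig _ hb v
          rw [h3, map_smul]
          rfl
        · rw [if_neg hb, mul_zero]
          have h3 : B (w * (u : G) * w⁻¹) = 0 := by
            ext v
            exact hB0 _ hnP hb v
          rw [h3, map_zero]
    rw [Finset.sum_congr rfl fun u _ => h2 u, Finset.sum_add_distrib, ← Finset.mul_sum]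
    congr 1
    simp

end core

end Cfsg.Agent.H912.HT
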