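import Cfsg.Agent.H912.HT.Rat
import Cfsg.Agent.Blocks.Deflate
import Cfsg.Agent.Blocks.Central
import Cfsg.Agent.S0902
import Cfsg.Agent.S0139

/-!
# S4933, `³D₄(q)`, `3 ∣ q + 1` (helper912): integrality

`ratio` : for an irreducible constituent `χ` of `Ind ρ` of multiplicity one, `d = χ(1)`, `N = |G : P| ρ(1)`:
`d' = N - d > 0` and both `|U| d' / d` and `|U| d / d'` are integers.
-/

set_option autoImplicit false

open Subgroup Cfsg Module

namespace Cfsg.Agent.H912.HT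

universe u

section cls

variable {Q : Type*} [Group Q] [Finite Q]

/-- a class function with natural values, `k` divides all values -/
theorem cls_integral [Fintype Q] (ρ : IrrCharacter Q) (n : Q → ℕ) (hn : ∀ x h : Q, n (h * x * h⁻¹) = n x) :
    IsIntegral ℤ ((∑ z : Q, (n z : ℂ) * (ρ : Q → ℂ) z) / (ρ : Q → ℂ) 1) := by
  classical
  have : Finite (ConjClasses Q) := Quotient.finite _
  have := Fintype.ofFinite (ConjClasses Q)
  have hρ := ρ.2
  rw [Blocks.Central.sum_eq_sum_conjClasses (fun z => (n z : ℂ) * (ρ : Q → ℂ) z) (fun x h => by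
    show (n (h * x * h⁻¹) : ℂ) * (ρ : Q → ℂ) (h * x * h⁻¹) = _
    rw [hn, Characters.Core.isIrr_isClassFunction hρ]), Finset.sum_div]
  refine IsIntegral.sum _ fun K _ => ?_
  have h1 := S0902.isIntegral_centralChar ρ (Quotient.out K : Q)
  have h2 : ((Subgroup.centralizer ({(Quotient.out K : Q)} : Set Q)).index : ℂ) * ((n (Quotient.out K) : ℂ) *
      (ρ : Q → ℂ) (Quotient.out K)) / (ρ : Q → ℂ) 1 =
      (n (Quotient.out K) : ℂ) * centralChar (ρ : Q → ℂ) (Quotient.out K) := by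
    unfold centralChar
    ring
  rw [h2]
  exact (isIntegral_algebraMap (R := ℤ) (x := (n (Quotient.out K) : ℤ))).mul h1

end cls

section count

variable {G : Type u} [Group G] {P U Lv C : Subgroup G} {w : G} {Q : Type*} [Group Q] {f : P →* Q}

/-- the class of `a b` is determined by `a w b` -/
theorem Dat.wd (D : Dat P U Lv C w) (hfU : ∀ x : P, (x : G) ∈ U → f x = 1) (hfC : ∀ x : P, (x : G) ∈ C → f x = 1)
    {a b a' b' : P} (e : (a : G) * w * b = a' * w * b') : f (a * b) = f (a' * b') := by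
  obtain ⟨u, hu, l, hl, e1⟩ := D.prod ((b' * b⁻¹ : P) : G) (b' * b⁻¹).2
  obtain ⟨c, hc, e2⟩ := D.mul_w hl
  have hlP := D.L_le hl
  have hcP := D.L_le (D.C_le hc)
  have h1 : (a' : G)⁻¹ * a = w * (b' * (b : G)⁻¹) * w⁻¹ := by
    have : (a' : G)⁻¹ * (a * w * b) * (b : G)⁻¹ * w⁻¹ = (a' : G)⁻¹ * (a' * w * b') * (b : G)⁻¹ * w⁻¹ := by rw [e]
    calc (a' : G)⁻¹ * a = (a' : G)⁻¹ * (a * w * b) * (b : G)⁻¹ * w⁻¹ := by group
      _ = _ := by rw [this]; group
  have h2 : (b' : G) * (b : G)⁻¹ = u * l := e1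
  have h3 : w * u * w⁻¹ = (a' : G)⁻¹ * a * (c * l)⁻¹ := by
    have h4 : w * l * w⁻¹ = c * l := by rw [e2]; group
    rw [h1, h2, ← h4]
    group
  have h4 : u = 1 := D.opp u hu (by
    rw [h3]
    exact mul_mem (mul_mem (inv_mem a'.2) a.2) (inv_mem (mul_mem hcP hlP)))
  subst h4
  have h5 : (a' : G)⁻¹ * a = c * l := by
    rw [mul_one, mul_inv_cancel] at h3
    exact (mul_inv_eq_one.1 h3.symm)
  have h6 : a'⁻¹ * a = ⟨c, hcP⟩ * ⟨l, hlP⟩ := Subtype.ext h5
  have h7 : b' * b⁻¹ = ⟨l, hlP⟩ := Subtype.ext (by rw [one_mul] at h2; exact h2)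
  have h8 : f (a'⁻¹ * a) = f (b' * b⁻¹) := by rw [h6, h7, map_mul, hfC ⟨c, hcP⟩ hc, one_mul]
  rw [map_mul, map_inv, map_mul, map_inv] at h8
  rw [map_mul, map_mul]
  calc f a * f b = f a' * ((f a')⁻¹ * f a) * f b := by group
    _ = f a' * f b' := by rw [h8]; group

/-- the elements of `U` whose conjugate lies in the double coset, with class `z` -/
def Fib (P U : Subgroup G) (w : G) (f : P →* Q) (z : Q) : Set U :=
  {u : U | ∃ a b : P, w * (u : G) * w⁻¹ = (a : G) * w * b ∧ f (a * b) = z}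

theorem Dat.fib_conj [Finite G] (D : Dat P U Lv C w) (hf : Function.Surjective f) (hfU : ∀ x : P, (x : G) ∈ U → f x = 1)
    (hfC : ∀ x : P, (x : G) ∈ C → f x = 1) (z y : Q) :
    Nat.card (Fib P U w f (y * z * y⁻¹)) = Nat.card (Fib P U w f z) := by
  have key : ∀ z y : Q, Nat.card (Fib P U w f z) ≤ Nat.card (Fib P U w f (y * z * y⁻¹)) := by
    intro z y
    obtain ⟨g, rfl⟩ := hf y
    obtain ⟨u', hu', l, hl, e1⟩ := D.prod g g.2
    obtain ⟨c, hc, e2⟩ := D.mul_w hl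
    have hlP := D.L_le hl
    have hcP := D.L_le (D.C_le hc)
    have hg : f g = f ⟨l, hlP⟩ := by
      have : g = ⟨u', D.U_le hu'⟩ * ⟨l, hlP⟩ := Subtype.ext e1
      rw [this, map_mul, hfU ⟨u', D.U_le hu'⟩ hu', one_mul]
    rw [hg]
    refine Nat.card_le_card_of_injective (fun u : Fib P U w f z => (⟨⟨l * u * l⁻¹, D.norm l hlP _ u.1.2⟩, ?_⟩ :
      Fib P U w f (f ⟨l, hlP⟩ * z * (f ⟨l, hlP⟩)⁻¹))) ?_
    · obtain ⟨a, b, h1, h2⟩ := u.2
      refine ⟨⟨c, hcP⟩ * ⟨l, hlP⟩ * a, b * ⟨l, hlP⟩⁻¹ * ⟨c, hcP⟩⁻¹, ?_, ?_⟩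
      · show w * (l * (u : G) * l⁻¹) * w⁻¹ = c * l * a * w * (b * l⁻¹ * c⁻¹)
        have h3 : w * l * w⁻¹ = c * l := by rw [e2]; group
        have h4 : w * l⁻¹ * w⁻¹ = l⁻¹ * c⁻¹ := by
          have : w * l⁻¹ * w⁻¹ = (w * l * w⁻¹)⁻¹ := by group
          rw [this, h3]; group
        calc w * (l * (u : G) * l⁻¹) * w⁻¹ = (w * l * w⁻¹) * (w * (u : G) * w⁻¹) * (w * l⁻¹ * w⁻¹) := by group
          _ = c * l * (a * w * b) * (l⁻¹ * c⁻¹) := by rw [h3, h4, h1]
          _ = _ := by group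
      · rw [← h2]
        simp only [map_mul, map_inv, hfC ⟨c, hcP⟩ hc]
        group
    · intro u v h
      apply Subtype.ext
      apply Subtype.ext
      have h1 : l * (u : G) * l⁻¹ = l * (v : G) * l⁻¹ := congrArg (fun t => ((t : U) : G)) (congrArg Subtype.val h)
      exact mul_left_cancel (mul_right_cancel h1)
  apply le_antisymm _ (key z y)
  have := key (y * z * y⁻¹) y⁻¹
  rwa [show y⁻¹ * (y * z * y⁻¹) * y⁻¹⁻¹ = z by group] at this

/-- the sum over `U` by fibres -/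
theorem Dat.sum_fib [Finite G] [Fintype U] [Finite Q] [Fintype Q] [DecidablePred (Big P w)] (D : Dat P U Lv C w)
    (hfU : ∀ x : P, (x : G) ∈ U → f x = 1) (hfC : ∀ x : P, (x : G) ∈ C → f x = 1) (ρ₀ : Q → ℂ)
    (x : G → P) (hx : ∀ g, Big P w g → ∃ a, ∃ ha : a ∈ P, ∃ b, ∃ hb : b ∈ P, g = a * w * b ∧ x g = ⟨a, ha⟩ * ⟨b, hb⟩) :
    ∑ u : U, (if Big P w (w * u * w⁻¹) then ρ₀ (f (x (w * u * w⁻¹))) else 0) =
      ∑ z : Q, (Nat.card (Fib P U w f z) : ℂ) * ρ₀ z := by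
  classical
  have h1 : ∀ z : Q, (Nat.card (Fib P U w f z) : ℂ) * ρ₀ z = ∑ u : U, if u ∈ Fib P U w f z then ρ₀ z else 0 := by
    intro z
    rw [← Finset.sum_filter, Finset.sum_const, nsmul_eq_mul]
    congr 2
    rw [Nat.card_eq_fintype_card, Fintype.card_subtype]
  rw [Finset.sum_congr rfl fun z _ => h1 z, Finset.sum_comm]
  refine Finset.sum_congr rfl fun u _ => ?_
  by_cases hb : Big P w (w * u * w⁻¹)
  · rw [if_pos hb]
    obtain ⟨a, ha, b, hb', e, e'⟩ := hx _ hb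
    have h2 : ∀ z : Q, u ∈ Fib P U w f z ↔ z = f (x (w * u * w⁻¹)) := by
      intro z
      constructor
      · rintro ⟨a', b', e1, e2⟩
        rw [← e2, e']
        exact D.wd hfU hfC (e1.symm.trans e)
      · rintro rfl
        exact ⟨⟨a, ha⟩, ⟨b, hb'⟩, e, by rw [e']⟩
    rw [Finset.sum_eq_single (f (x (w * u * w⁻¹)))]
    · rw [if_pos ((h2 _).2 rfl)]
    · intro z _ hz
      rw [if_neg fun h => hz ((h2 z).1 h)]
    · intro h
      exact absurd (Finset.mem_univ _) h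
  · rw [if_neg hb, Finset.sum_eq_zero]
    intro z _
    rw [if_neg]
    rintro ⟨a', b', e1, -⟩
    exact hb ⟨a', a'.2, b', b'.2, e1⟩

end count

section main

variable {G : Type u} [Group G] {P U Lv C : Subgroup G} {w : G}

/-- **The equation for the scalar of `w`.** -/
theorem eqn [Finite G] [Fintype P] (D : Dat P U Lv C w) (hwP : w ∉ P) {Q : Type*} [Group Q] [Finite Q] [Fintype Q]
    {f : P →* Q} (hfU : ∀ x : P, (x : G) ∈ U → f x = 1) (hfC : ∀ x : P, (x : G) ∈ C → f x = 1)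
    {ρ : P → ℂ} (K : Chr P U C w ρ) (ρ₀ : Q → ℂ) (hρ₀ : ∀ x, ρ x = ρ₀ (f x)) (χ : IrrCharacter G)
    (hχ : classInner (fun x : P => (χ : G → ℂ) x) ρ = 1) :
    ∃ t : ℂ, t ^ 2 = Nat.card U + (∑ z : Q, (Nat.card (Fib P U w f z) : ℂ) * ρ₀ z) / ρ₀ 1 * t ∧
      (χ : G → ℂ) 1 * (Nat.card U + t ^ 2) = Nat.card U * (P.index * ρ 1) := by
  classical
  have := Fintype.ofFinite U
  obtain ⟨χ, n, π, hπ, rfl⟩ := χ
  obtain ⟨m, τ, hτ, e⟩ := K.irr
  have hone : ∀ x : P, ρ x = ρ 1 → τ x = 1 := by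
    intro x hx
    refine (S0139.result τ x).1 ?_
    have h0 : τ.character 1 = (finrank ℂ (Fin m → ℂ) : ℂ) := Representation.char_one (ρ := τ)
    rw [← h0, e]
    exact hx
  have hd : ρ 1 = (finrank ℂ (Fin m → ℂ) : ℂ) := by rw [← e, Representation.char_one]
  have hd0 : ρ 1 ≠ 0 := Characters.Core.isIrr_apply_one_ne_zero K.irr
  let x : G → P := fun g => if h : Big P w g then
    ⟨h.choose, h.choose_spec.1⟩ * ⟨h.choose_spec.2.choose, h.choose_spec.2.choose_spec.1⟩ else 1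
  have hx : ∀ g, Big P w g → ∃ a, ∃ ha : a ∈ P, ∃ b, ∃ hb : b ∈ P, g = a * w * b ∧ x g = ⟨a, ha⟩ * ⟨b, hb⟩ := by
    intro g hg
    refine ⟨hg.choose, hg.choose_spec.1, hg.choose_spec.2.choose, hg.choose_spec.2.choose_spec.1,
      hg.choose_spec.2.choose_spec.2, ?_⟩
    simp only [x]
    rw [dif_pos hg]
  obtain ⟨a, h1, h2⟩ := core D hwP π hπ τ hτ (fun y hy => hone y (by
      have := K.kerU y 1 hy
      rwa [mul_one] at this)) (fun y hy => hone y (by
      have := K.kerC y 1 hy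
      rwa [mul_one] at this)) (fun g hg hg' => by
      obtain ⟨D', hD', hs⟩ := K.cusp g hg hg'
      refine ⟨D', hD', ?_⟩
      have := hs 1
      simp only [mul_one] at this
      rw [e]
      exact this) (by rw [e]; exact hχ) x hx
  have h3 : ∑ u : U, (if Big P w (w * u * w⁻¹) then τ.character (x (w * u * w⁻¹)) else 0) =
      ∑ z : Q, (Nat.card (Fib P U w f z) : ℂ) * ρ₀ z := by
    rw [← D.sum_fib hfU hfC ρ₀ x hx]
    refine Finset.sum_congr rfl fun u _ => ?_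
    rw [e, hρ₀]
  rw [h3, ← hd] at h2
  have hU0 : (Nat.card U : ℂ) ≠ 0 := Characters.Core.card_ne_zero_complex
  have hP0 : (Nat.card P : ℂ) ≠ 0 := Characters.Core.card_ne_zero_complex
  have h4 : ρ₀ 1 = ρ 1 := by rw [hρ₀ 1, map_one f]
  refine ⟨Nat.card U * a, ?_, ?_⟩
  · rw [h4, div_mul_eq_mul_div, eq_comm, ← eq_sub_iff_add_eq', div_eq_iff hd0]
    linear_combination (-(Nat.card U : ℂ)) * h2
  · have h5 : (Nat.card G : ℂ) = Nat.card P * P.index := by
      rw [← Nat.cast_mul, Subgroup.card_mul_index]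
    rw [h5, ← hd] at h1
    show π.character 1 * _ = _
    rw [Representation.char_one]
    have h6 : (Nat.card P : ℂ) * ((finrank ℂ (Fin n → ℂ) : ℂ) * (1 + Nat.card U * a ^ 2)) =
        Nat.card P * (P.index * ρ 1) := by linear_combination h1
    have h7 := mul_left_cancel₀ hP0 h6
    linear_combination (Nat.card U : ℂ) * h7

/-- rational algebraic integers -/
theorem exists_int {x : ℂ} (hx : IsIntegral ℤ x) {d n : ℕ} (hd : 0 < d) (h : (d : ℂ) * x = n) :
    ∃ z : ℕ, d * z = n := by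
  have hd0 : (d : ℚ) ≠ 0 := by exact_mod_cast hd.ne'
  have hd0' : (d : ℂ) ≠ 0 := by exact_mod_cast hd.ne'
  have h1 : x = algebraMap ℚ ℂ ((n : ℚ) / d) := by
    rw [map_div₀, map_natCast, map_natCast, eq_div_iff hd0', mul_comm]
    exact h
  rw [h1] at hx
  have h2 : IsIntegral ℤ ((n : ℚ) / d) := (isIntegral_algebraMap_iff (algebraMap ℚ ℂ).injective).1 hx
  obtain ⟨z, hz⟩ := IsIntegrallyClosed.isIntegral_iff.1 h2
  have h3 : (d : ℚ) * z = n := by
    have : (z : ℚ) = n / d := hz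
    rw [this, mul_div_cancel₀ _ hd0]
  have h4 : (d : ℤ) * z = n := by exact_mod_cast h3
  have h5 : 0 ≤ z := by
    by_contra hc
    push Not at hc
    have : (d : ℤ) * z < 0 := mul_neg_of_pos_of_neg (by exact_mod_cast hd) hc
    omega
  obtain ⟨z', rfl⟩ := Int.eq_ofNat_of_zero_le h5
  exact ⟨z', by exact_mod_cast h4⟩

theorem quad_integral {A : Type*} [CommRing A] [Nontrivial A] [Algebra A ℂ] (c u : A) {t : ℂ}
    (h : t ^ 2 = algebraMap A ℂ u + algebraMap A ℂ c * t) : IsIntegral A t := by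
  have h1 : (Polynomial.C c * Polynomial.X + Polynomial.C u).degree < ((2 : ℕ) : WithBot ℕ) :=
    lt_of_le_of_lt Polynomial.degree_linear_le (by norm_num)
  have h2 : (Polynomial.X ^ 2 - (Polynomial.C c * Polynomial.X + Polynomial.C u)).Monic :=
    Polynomial.monic_X_pow_sub h1
  refine ⟨_, h2, ?_⟩
  rw [Polynomial.eval₂_sub, Polynomial.eval₂_add, Polynomial.eval₂_mul, Polynomial.eval₂_X_pow,
    Polynomial.eval₂_X, Polynomial.eval₂_C, Polynomial.eval₂_C, h]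
  ring

/-- a root of a quadratic equation with integral coefficients -/
theorem integral_of_eq {t c : ℂ} {u : ℕ} (hc : IsIntegral ℤ c) (h : t ^ 2 = u + c * t) : IsIntegral ℤ t := by
  have h1 : IsIntegral (integralClosure ℤ ℂ) t :=
    quad_integral (⟨c, hc⟩ : integralClosure ℤ ℂ) (u : integralClosure ℤ ℂ) (by
      rw [map_natCast]
      exact h)
  exact isIntegral_trans t h1

/-- **The ratio of the degrees.** -/
theorem ratio [Finite G] [Fintype P] (D : Dat P U Lv C w) (hwP : w ∉ P) {ρ : P → ℂ} (K : Chr P U C w ρ)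
    (χ : IrrCharacter G) (hχ : classInner (fun x : P => (χ : G → ℂ) x) ρ = 1) {d d' : ℕ}
    (hd : (χ : G → ℂ) 1 = d) (hN : (P.index : ℂ) * ρ 1 = d + d') :
    0 < d ∧ 0 < d' ∧ d ∣ Nat.card U * d' ∧ d' ∣ Nat.card U * d := by
  classical
  -- the quotient by the kernel
  obtain ⟨m, τ, hτ, e⟩ := K.irr
  have hone : ∀ x : P, ρ x = ρ 1 → τ x = 1 := by
    intro x hx
    refine (S0139.result τ x).1 ?_
    have h0 : τ.character 1 = (finrank ℂ (Fin m → ℂ) : ℂ) := Representation.char_one (ρ := τ)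
    rw [← h0, e]
    exact hx
  let N : Subgroup P := MonoidHom.ker (τ : P →* Module.End ℂ (Fin m → ℂ))
  have hN1 : ∀ x : P, x ∈ N ↔ τ x = 1 := fun x => MonoidHom.mem_ker
  have := Fintype.ofFinite N
  have hsum : ∑ n : N, ρ n ≠ 0 := by
    have h1 : ∀ n : N, ρ n = ρ 1 := by
      intro n
      rw [← e]
      show LinearMap.trace ℂ _ (τ (n : P)) = LinearMap.trace ℂ _ (τ 1)
      rw [(hN1 n).1 n.2, map_one τ]
    rw [Finset.sum_congr rfl fun n _ => h1 n, Finset.sum_const, nsmul_eq_mul]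
    refine mul_ne_zero ?_ (Characters.Core.isIrr_apply_one_ne_zero K.irr)
    rw [Finset.card_univ]
    exact_mod_cast Fintype.card_ne_zero
  obtain ⟨ρ₀, hρ₀⟩ := Blocks.Deflate.exists_deflation N ρ K.irr hsum
  have := Fintype.ofFinite (P ⧸ N)
  have hfU : ∀ x : P, (x : G) ∈ U → QuotientGroup.mk' N x = 1 := fun x hx =>
    (QuotientGroup.eq_one_iff x).2 ((hN1 x).2 (hone x (by
      have := K.kerU x 1 hx
      rwa [mul_one] at this)))
  have hfC : ∀ x : P, (x : G) ∈ C → QuotientGroup.mk' N x = 1 := fun x hx =>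
    (QuotientGroup.eq_one_iff x).2 ((hN1 x).2 (hone x (by
      have := K.kerC x 1 hx
      rwa [mul_one] at this)))
  obtain ⟨t, h1, h2⟩ := eqn D hwP hfU hfC K (ρ₀ : P ⧸ N → ℂ) (fun x => congrFun hρ₀ x) χ hχ
  have hc := cls_integral ρ₀ (fun z => Nat.card (Fib P U w (QuotientGroup.mk' N) z))
    (fun z y => D.fib_conj (QuotientGroup.mk'_surjective N) hfU hfC z y)
  set c : ℂ := (∑ z : P ⧸ N, (Nat.card (Fib P U w (QuotientGroup.mk' N) z) : ℂ) * (ρ₀ : P ⧸ N → ℂ) z) /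
    (ρ₀ : P ⧸ N → ℂ) 1 with hcdef
  have ht := integral_of_eq hc h1
  have hU0 : 0 < Nat.card U := Nat.card_pos
  have hU0' : (Nat.card U : ℂ) ≠ 0 := by exact_mod_cast hU0.ne'
  have hd0 : 0 < d := by
    rcases Nat.eq_zero_or_pos d with h | h
    · rw [h, Nat.cast_zero] at hd
      exact absurd hd (Characters.Core.isIrr_apply_one_ne_zero χ.2)
    · exact h
  rw [hN, hd] at h2
  have h3 : (d : ℂ) * t ^ 2 = ((Nat.card U * d' : ℕ) : ℂ) := by
    push_cast
    linear_combination h2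
  have ht0 : t ≠ 0 := by
    rintro rfl
    rw [mul_zero, add_zero, zero_pow two_ne_zero] at h1
    exact hU0' h1.symm
  have hd'0 : 0 < d' := by
    rcases Nat.eq_zero_or_pos d' with h | h
    · rw [h, mul_zero, Nat.cast_zero, mul_eq_zero] at h3
      rcases h3 with h3 | h3
      · exact absurd (by exact_mod_cast h3) hd0.ne'
      · exact absurd (pow_eq_zero_iff two_ne_zero |>.1 h3) ht0
    · exact h
  obtain ⟨z, hz⟩ := exists_int (ht.pow 2) hd0 h3
  have hs : IsIntegral ℤ (c - t) := hc.sub ht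
  have h4 : (d' : ℂ) * (c - t) ^ 2 = ((Nat.card U * d : ℕ) : ℂ) := by
    have h5 : t * (c - t) = -(Nat.card U : ℂ) := by linear_combination (-1 : ℂ) * h1
    have h6 : t ^ 2 * (c - t) ^ 2 = (Nat.card U : ℂ) ^ 2 := by
      rw [← mul_pow, h5]
      ring
    have h7 : (Nat.card U : ℂ) * ((d' : ℂ) * (c - t) ^ 2) = Nat.card U * ((Nat.card U * d : ℕ) : ℂ) := by
      push_cast at h3 ⊢
      calc (Nat.card U : ℂ) * ((d' : ℂ) * (c - t) ^ 2) = (Nat.card U * d') * (c - t) ^ 2 := by ring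
        _ = d * (t ^ 2 * (c - t) ^ 2) := by rw [← h3]; ring
        _ = _ := by rw [h6]; ring
    exact mul_left_cancel₀ hU0' h7
  obtain ⟨z', hz'⟩ := exists_int (hs.pow 2) hd'0 h4
  exact ⟨hd0, hd'0, ⟨z, hz.symm⟩, ⟨z', hz'.symm⟩⟩

end main

end Cfsg.Agent.H912.HT
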